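import Cfsg.Agent.Lib.Grp.ThC.Defs

set_option autoImplicit false
set_option maxRecDepth 100000
set_option Elab.async false
set_option linter.unusedSectionVars false

namespace Cfsg.Agent.CG.ThC

theorem c0 : allRange (chkBase 270 12 (appT tabs t76 0xfff) 0 (inv 0)) 0 270 = true := by decide +kernel
theorem c1 : allRange (chkBase 270 12 (appT tabs t76 0xfff) 1 (inv 1)) 0 270 = true := by decide +kernel
theorem c2 : allRange (chkBase 270 12 (appT tabs t76 0xfff) 2 (inv 2)) 0 270 = true := by decide +kernel
theorem c3 : allRange (chkBase 270 12 (appT tabs t76 0xfff) 3 (inv 3)) 0 270 = true := by decide +kernel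
theorem c4 : allRange (chkBase 270 12 (appT tabs t76 0xfff) 4 (inv 4)) 0 270 = true := by decide +kernel
theorem c5 : allRange (chkBase 270 12 (appT tabs t76 0xfff) 5 (inv 5)) 0 270 = true := by decide +kernel
theorem c6 : allRange (chkBase 270 12 (appT tabs t76 0xfff) 6 (inv 6)) 0 270 = true := by decide +kernel
theorem c7 : allRange (chkBase 270 12 (appT tabs t76 0xfff) 7 (inv 7)) 0 270 = true := by decide +kernel
theorem c8 : allRange (chkBase 270 12 (appT tabs t76 0xfff) 8 (inv 8)) 0 270 = true := by decide +kernel
theorem c9 : chkDef 12 (appT tabs t76 0xfff) 9 (slp 9) 0 270 = true := by decide +kernel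
theorem c10 : chkDef 12 (appT tabs t76 0xfff) 10 (slp 10) 0 270 = true := by decide +kernel
theorem c11 : chkDef 12 (appT tabs t76 0xfff) 11 (slp 11) 0 270 = true := by decide +kernel
theorem c12 : chkDef 12 (appT tabs t76 0xfff) 12 (slp 12) 0 270 = true := by decide +kernel
theorem c13 : chkDef 12 (appT tabs t76 0xfff) 13 (slp 13) 0 270 = true := by decide +kernel
theorem c14 : chkDef 12 (appT tabs t76 0xfff) 14 (slp 14) 0 270 = true := by decide +kernel
theorem c15 : chkDef 12 (appT tabs t76 0xfff) 15 (slp 15) 0 270 = true := by decide +kernel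
theorem c16 : chkDef 12 (appT tabs t76 0xfff) 16 (slp 16) 0 270 = true := by decide +kernel
theorem c17 : chkDef 12 (appT tabs t76 0xfff) 17 (slp 17) 0 270 = true := by decide +kernel
theorem c18 : chkDef 12 (appT tabs t76 0xfff) 18 (slp 18) 0 270 = true := by decide +kernel
theorem c19 : chkDef 12 (appT tabs t76 0xfff) 19 (slp 19) 0 270 = true := by decide +kernel
theorem c20 : chkDef 12 (appT tabs t76 0xfff) 20 (slp 20) 0 270 = true := by decide +kernel
theorem c21 : chkDef 12 (appT tabs t76 0xfff) 21 (slp 21) 0 270 = true := by decide +kernel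
theorem c22 : chkDef 12 (appT tabs t76 0xfff) 22 (slp 22) 0 270 = true := by decide +kernel
theorem c23 : chkDef 12 (appT tabs t76 0xfff) 23 (slp 23) 0 270 = true := by decide +kernel
theorem c24 : chkDef 12 (appT tabs t76 0xfff) 24 (slp 24) 0 270 = true := by decide +kernel
theorem c25 : chkDef 12 (appT tabs t76 0xfff) 25 (slp 25) 0 270 = true := by decide +kernel
theorem c26 : chkDef 12 (appT tabs t76 0xfff) 26 (slp 26) 0 270 = true := by decide +kernel
theorem c27 : chkDef 12 (appT tabs t76 0xfff) 27 (slp 27) 0 270 = true := by decide +kernel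
theorem c28 : chkDef 12 (appT tabs t76 0xfff) 28 (slp 28) 0 270 = true := by decide +kernel
theorem c29 : chkDef 12 (appT tabs t76 0xfff) 29 (slp 29) 0 270 = true := by decide +kernel
theorem c30 : chkDef 12 (appT tabs t76 0xfff) 30 (slp 30) 0 270 = true := by decide +kernel
theorem c31 : chkDef 12 (appT tabs t76 0xfff) 31 (slp 31) 0 270 = true := by decide +kernel
theorem c32 : chkDef 12 (appT tabs t76 0xfff) 32 (slp 32) 0 270 = true := by decide +kernel
theorem c33 : chkDef 12 (appT tabs t76 0xfff) 33 (slp 33) 0 270 = true := by decide +kernel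
theorem c34 : chkDef 12 (appT tabs t76 0xfff) 34 (slp 34) 0 270 = true := by decide +kernel
theorem c35 : chkDef 12 (appT tabs t76 0xfff) 35 (slp 35) 0 270 = true := by decide +kernel
theorem c36 : chkDef 12 (appT tabs t76 0xfff) 36 (slp 36) 0 270 = true := by decide +kernel
theorem c37 : chkDef 12 (appT tabs t76 0xfff) 37 (slp 37) 0 270 = true := by decide +kernel
theorem c38 : chkDef 12 (appT tabs t76 0xfff) 38 (slp 38) 0 270 = true := by decide +kernel
theorem c39 : chkDef 12 (appT tabs t76 0xfff) 39 (slp 39) 0 270 = true := by decide +kernel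
theorem c40 : chkDef 12 (appT tabs t76 0xfff) 40 (slp 40) 0 270 = true := by decide +kernel
theorem c41 : chkDef 12 (appT tabs t76 0xfff) 41 (slp 41) 0 270 = true := by decide +kernel
theorem c42 : chkDef 12 (appT tabs t76 0xfff) 42 (slp 42) 0 270 = true := by decide +kernel
theorem c43 : chkDef 12 (appT tabs t76 0xfff) 43 (slp 43) 0 270 = true := by decide +kernel
theorem c44 : chkDef 12 (appT tabs t76 0xfff) 44 (slp 44) 0 270 = true := by decide +kernel
theorem c45 : chkDef 12 (appT tabs t76 0xfff) 45 (slp 45) 0 270 = true := by decide +kernel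
theorem c46 : chkDef 12 (appT tabs t76 0xfff) 46 (slp 46) 0 270 = true := by decide +kernel
theorem c47 : chkDef 12 (appT tabs t76 0xfff) 47 (slp 47) 0 270 = true := by decide +kernel
theorem c48 : chkDef 12 (appT tabs t76 0xfff) 48 (slp 48) 0 270 = true := by decide +kernel
theorem c49 : chkDef 12 (appT tabs t76 0xfff) 49 (slp 49) 0 270 = true := by decide +kernel
theorem c50 : chkDef 12 (appT tabs t76 0xfff) 50 (slp 50) 0 270 = true := by decide +kernel
theorem c51 : chkDef 12 (appT tabs t76 0xfff) 51 (slp 51) 0 270 = true := by decide +kernel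
theorem c52 : chkDef 12 (appT tabs t76 0xfff) 52 (slp 52) 0 270 = true := by decide +kernel
theorem c53 : chkDef 12 (appT tabs t76 0xfff) 53 (slp 53) 0 270 = true := by decide +kernel
theorem c54 : chkDef 12 (appT tabs t76 0xfff) 54 (slp 54) 0 270 = true := by decide +kernel
theorem c55 : chkDef 12 (appT tabs t76 0xfff) 55 (slp 55) 0 270 = true := by decide +kernel
theorem c56 : chkDef 12 (appT tabs t76 0xfff) 56 (slp 56) 0 270 = true := by decide +kernel
theorem c57 : chkDef 12 (appT tabs t76 0xfff) 57 (slp 57) 0 270 = true := by decide +kernel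
theorem c58 : chkDef 12 (appT tabs t76 0xfff) 58 (slp 58) 0 270 = true := by decide +kernel
theorem c59 : chkDef 12 (appT tabs t76 0xfff) 59 (slp 59) 0 270 = true := by decide +kernel
theorem c60 : chkDef 12 (appT tabs t76 0xfff) 60 (slp 60) 0 270 = true := by decide +kernel
theorem c61 : chkDef 12 (appT tabs t76 0xfff) 61 (slp 61) 0 270 = true := by decide +kernel
theorem c62 : chkDef 12 (appT tabs t76 0xfff) 62 (slp 62) 0 270 = true := by decide +kernel
theorem c63 : chkDef 12 (appT tabs t76 0xfff) 63 (slp 63) 0 270 = true := by decide +kernel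
theorem c64 : chkDef 12 (appT tabs t76 0xfff) 64 (slp 64) 0 270 = true := by decide +kernel
theorem c65 : chkDef 12 (appT tabs t76 0xfff) 65 (slp 65) 0 270 = true := by decide +kernel
theorem c66 : chkDef 12 (appT tabs t76 0xfff) 66 (slp 66) 0 270 = true := by decide +kernel
theorem c67 : chkDef 12 (appT tabs t76 0xfff) 67 (slp 67) 0 270 = true := by decide +kernel
theorem c68 : chkDef 12 (appT tabs t76 0xfff) 68 (slp 68) 0 270 = true := by decide +kernel
theorem c69 : chkDef 12 (appT tabs t76 0xfff) 69 (slp 69) 0 270 = true := by decide +kernel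
theorem c70 : chkDef 12 (appT tabs t76 0xfff) 70 (slp 70) 0 270 = true := by decide +kernel
theorem c71 : chkDef 12 (appT tabs t76 0xfff) 71 (slp 71) 0 270 = true := by decide +kernel
theorem c72 : chkDef 12 (appT tabs t76 0xfff) 72 (slp 72) 0 270 = true := by decide +kernel
theorem c73 : chkDef 12 (appT tabs t76 0xfff) 73 (slp 73) 0 270 = true := by decide +kernel
theorem c74 : chkDef 12 (appT tabs t76 0xfff) 74 (slp 74) 0 270 = true := by decide +kernel
theorem c75 : chkDef 12 (appT tabs t76 0xfff) 75 (slp 75) 0 270 = true := by decide +kernel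
theorem c76 : chkDef 12 (appT tabs t76 0xfff) 76 (false, []) 0 270 = true := by decide +kernel
theorem c77 : mc0.chk (appT tabs t76 0xfff) 1 269 = true := by decide +kernel
theorem c78 : mc1.chk (appT tabs t76 0xfff) 1 27 = true := by decide +kernel
theorem c79 : mc2.chk (appT tabs t76 0xfff) 1 23 = true := by decide +kernel
theorem c80 : mc3.chk (appT tabs t76 0xfff) 1 15 = true := by decide +kernel
theorem c81 : mc4.chk (appT tabs t76 0xfff) 1 1 = true := by decide +kernel
theorem c82 : mc5.chk (appT tabs t76 0xfff) 1 1 = true := by decide +kernel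
theorem c83 : mc6.chk (appT tabs t76 0xfff) 1 1 = true := by decide +kernel
theorem c84 : mc7.chk (appT tabs t76 0xfff) 1 1 = true := by decide +kernel
theorem c85 : okcb 270 12 (bases mc) = true := by decide +kernel
theorem c86 : headAll (appT tabs t76 0xfff) mc [] = true := by decide +kernel
theorem c87 : tc0.head tcR = true := by decide +kernel
theorem c88 : allL (fun a => tc0.chk a 0 tc0.N) tc0.S = true := by decide +kernel
theorem c89 : tc1.head tcR = true := by decide +kernel
theorem c90 : allL (fun a => tc1.chk a 0 tc1.N) tc1.S = true := by decide +kernel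
theorem c91 : tc2.head tcR = true := by decide +kernel
theorem c92 : allL (fun a => tc2.chk a 0 tc2.N) tc2.S = true := by decide +kernel
theorem c93 : tc3.head tcR = true := by decide +kernel
theorem c94 : allL (fun a => tc3.chk a 0 tc3.N) tc3.S = true := by decide +kernel
theorem c95 : tc4.head tcR = true := by decide +kernel
theorem c96 : allL (fun a => tc4.chk a 0 tc4.N) tc4.S = true := by decide +kernel
theorem c97 : tc5.head tcR = true := by decide +kernel
theorem c98 : allL (fun a => tc5.chk a 0 tc5.N) tc5.S = true := by decide +kernel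
theorem c99 : tc6.head tcR = true := by decide +kernel
theorem c100 : allL (fun a => tc6.chk a 0 tc6.N) tc6.S = true := by decide +kernel
theorem c101 : tc7.head tcR = true := by decide +kernel
theorem c102 : allL (fun a => tc7.chk a 0 tc7.N) tc7.S = true := by decide +kernel
theorem c103 : tcLink tc [] [54,55,56,57,58,59,60,61,62,63] = true := by decide +kernel
theorem c104 : oneAll 12 (appT tabs t76 0xfff) [54,54] 0 270 = true := by decide +kernel
theorem c105 : oneAll 12 (appT tabs t76 0xfff) [55,55] 0 270 = true := by decide +kernel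
theorem c106 : oneAll 12 (appT tabs t76 0xfff) [55,54,55,54] 0 270 = true := by decide +kernel
theorem c107 : oneAll 12 (appT tabs t76 0xfff) [56,56] 0 270 = true := by decide +kernel
theorem c108 : oneAll 12 (appT tabs t76 0xfff) [56,54,56,54] 0 270 = true := by decide +kernel
theorem c109 : oneAll 12 (appT tabs t76 0xfff) [56,55,56,55] 0 270 = true := by decide +kernel
theorem c110 : oneAll 12 (appT tabs t76 0xfff) [57,57] 0 270 = true := by decide +kernel
theorem c111 : oneAll 12 (appT tabs t76 0xfff) [57,54,57,54] 0 270 = true := by decide +kernel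
theorem c112 : oneAll 12 (appT tabs t76 0xfff) [57,55,57,55] 0 270 = true := by decide +kernel
theorem c113 : oneAll 12 (appT tabs t76 0xfff) [57,56,57,56] 0 270 = true := by decide +kernel
theorem c114 : oneAll 12 (appT tabs t76 0xfff) [58,58] 0 270 = true := by decide +kernel
theorem c115 : oneAll 12 (appT tabs t76 0xfff) [59,59] 0 270 = true := by decide +kernel
theorem c116 : oneAll 12 (appT tabs t76 0xfff) [60,60] 0 270 = true := by decide +kernel
theorem c117 : oneAll 12 (appT tabs t76 0xfff) [58,54,58,54] 0 270 = true := by decide +kernel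
theorem c118 : oneAll 12 (appT tabs t76 0xfff) [59,54,59,54] 0 270 = true := by decide +kernel
theorem c119 : oneAll 12 (appT tabs t76 0xfff) [60,54,60,54] 0 270 = true := by decide +kernel
theorem c120 : oneAll 12 (appT tabs t76 0xfff) [58,57,58,57] 0 270 = true := by decide +kernel
theorem c121 : oneAll 12 (appT tabs t76 0xfff) [59,57,59,57] 0 270 = true := by decide +kernel
theorem c122 : oneAll 12 (appT tabs t76 0xfff) [60,57,60,57] 0 270 = true := by decide +kernel
theorem c123 : oneAll 12 (appT tabs t76 0xfff) [60,55,60,54,55,57] 0 270 = true := by decide +kernel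
theorem c124 : oneAll 12 (appT tabs t76 0xfff) [60,56,60,54,56,57] 0 270 = true := by decide +kernel
theorem c125 : oneAll 12 (appT tabs t76 0xfff) [58,55,56,58,55,56] 0 270 = true := by decide +kernel
theorem c126 : oneAll 12 (appT tabs t76 0xfff) [59,55,56,59,55,56] 0 270 = true := by decide +kernel
theorem c127 : oneAll 12 (appT tabs t76 0xfff) [58,59,58,59,55,56] 0 270 = true := by decide +kernel
theorem c128 : oneAll 12 (appT tabs t76 0xfff) [58,59,55,59,58,56] 0 270 = true := by decide +kernel
theorem c129 : oneAll 12 (appT tabs t76 0xfff) [60,58,55,60,58,55] 0 270 = true := by decide +kernel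
theorem c130 : oneAll 12 (appT tabs t76 0xfff) [60,59,55,60,59,55] 0 270 = true := by decide +kernel
theorem c131 : oneAll 12 (appT tabs t76 0xfff) [58,55,58,55,58,55,58,55] 0 270 = true := by decide +kernel
theorem c132 : oneAll 12 (appT tabs t76 0xfff) [61,61] 0 270 = true := by decide +kernel
theorem c133 : oneAll 12 (appT tabs t76 0xfff) [61,54,56,61,54,56] 0 270 = true := by decide +kernel
theorem c134 : oneAll 12 (appT tabs t76 0xfff) [61,60,61,60,61,60] 0 270 = true := by decide +kernel
theorem c135 : oneAll 12 (appT tabs t76 0xfff) [61,54,57,61,54,58,55,58] 0 270 = true := by decide +kernel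
theorem c136 : oneAll 12 (appT tabs t76 0xfff) [61,57,55,61,57,55] 0 270 = true := by decide +kernel
theorem c137 : oneAll 12 (appT tabs t76 0xfff) [61,54,61,54,61,54,61,54] 0 270 = true := by decide +kernel
theorem c138 : oneAll 12 (appT tabs t76 0xfff) [61,54,61,60,61,54,61,54,60] 0 270 = true := by decide +kernel
theorem c139 : oneAll 12 (appT tabs t76 0xfff) [61,54,59,61,59,54,61,54,59] 0 270 = true := by decide +kernel
theorem c140 : oneAll 12 (appT tabs t76 0xfff) [55,61,59,61,56,61,59,56,61] 0 270 = true := by decide +kernel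
theorem c141 : oneAll 12 (appT tabs t76 0xfff) [61,58,61,56,61,58,61,54,55,57] 0 270 = true := by decide +kernel
theorem c142 : oneAll 12 (appT tabs t76 0xfff) [61,58,61,58,61,58,61,55,58,55] 0 270 = true := by decide +kernel
theorem c143 : oneAll 12 (appT tabs t76 0xfff) [58,61,60,58,61,60,58,61,60] 0 270 = true := by decide +kernel
theorem c144 : oneAll 12 (appT tabs t76 0xfff) [61,59,60,61,58,61,60,59,61,58] 0 270 = true := by decide +kernel
theorem c145 : oneAll 12 (appT tabs t76 0xfff) [62,62] 0 270 = true := by decide +kernel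
theorem c146 : oneAll 12 (appT tabs t76 0xfff) [62,55,62,55] 0 270 = true := by decide +kernel
theorem c147 : oneAll 12 (appT tabs t76 0xfff) [62,56,62,56] 0 270 = true := by decide +kernel
theorem c148 : oneAll 12 (appT tabs t76 0xfff) [62,58,62,54,57,59] 0 270 = true := by decide +kernel
theorem c149 : oneAll 12 (appT tabs t76 0xfff) [62,54,62,56,57,58,55,58] 0 270 = true := by decide +kernel
theorem c150 : oneAll 12 (appT tabs t76 0xfff) [62,59,60,62,59,60] 0 270 = true := by decide +kernel
theorem c151 : oneAll 12 (appT tabs t76 0xfff) [62,61,62,61,62,61,62,61] 0 270 = true := by decide +kernel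
theorem c152 : oneAll 12 (appT tabs t76 0xfff) [62,61,58,62,59,62,61,62,54,57] 0 270 = true := by decide +kernel
theorem c153 : oneAll 12 (appT tabs t76 0xfff) [62,61,62,58,60,61,62,58,60,61,58,60] 0 270 = true := by decide +kernel
theorem c154 : oneAll 12 (appT tabs t76 0xfff) [63,63] 0 270 = true := by decide +kernel
theorem c155 : oneAll 12 (appT tabs t76 0xfff) [63,54,63,54] 0 270 = true := by decide +kernel
theorem c156 : oneAll 12 (appT tabs t76 0xfff) [63,61,55,61,63,56] 0 270 = true := by decide +kernel
theorem c157 : oneAll 12 (appT tabs t76 0xfff) [63,59,63,59,63,59] 0 270 = true := by decide +kernel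
theorem c158 : oneAll 12 (appT tabs t76 0xfff) [63,55,61,55,61,55,63,56] 0 270 = true := by decide +kernel
theorem c159 : oneAll 12 (appT tabs t76 0xfff) [63,55,63,55,63,55,63,55] 0 270 = true := by decide +kernel
theorem c160 : oneAll 12 (appT tabs t76 0xfff) [63,55,63,57,63,55,63,57] 0 270 = true := by decide +kernel
theorem c161 : oneAll 12 (appT tabs t76 0xfff) [63,61,54,61,63,54,61,54,61] 0 270 = true := by decide +kernel
theorem c162 : oneAll 12 (appT tabs t76 0xfff) [63,55,63,59,63,55,63,57,59] 0 270 = true := by decide +kernel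
theorem c163 : oneAll 12 (appT tabs t76 0xfff) [63,55,62,61,55,61,62,63,57] 0 270 = true := by decide +kernel
theorem c164 : oneAll 12 (appT tabs t76 0xfff) [63,55,63,58,63,55,63,54,57,58] 0 270 = true := by decide +kernel
theorem c165 : oneAll 12 (appT tabs t76 0xfff) [63,55,63,60,63,55,63,58,60,58] 0 270 = true := by decide +kernel
theorem c166 : oneAll 12 (appT tabs t76 0xfff) [63,55,62,63,55,63,62,63,58,55,58] 0 270 = true := by decide +kernel
theorem c167 : oneAll 12 (appT tabs t76 0xfff) [63,61,63,55,63,61,57,63,56,55] 0 270 = true := by decide +kernel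
theorem c168 : oneAll 12 (appT tabs t76 0xfff) [63,55,61,63,57,63,61,63,55,56,58,55,58] 0 270 = true := by decide +kernel
theorem c169 : oneAll 12 (appT tabs t76 0xfff) [63,59,58,63,61,60,63,54,57,58,55,61,60,62] 0 270 = true := by decide +kernel
theorem c170 : oneAll 12 (appT tabs t76 0xfff) [63,55,60,63,62,63,60,55,63,61,62,61,62] 0 270 = true := by decide +kernel
theorem c171 : oneAll 12 (appT tabs t76 0xfff) [55,61,60,63,62,60,58,61,62,63,61,59,54,58] 0 270 = true := by decide +kernel
theorem c172 : eqAll 12 (appT tabs t76 0xfff) [0] (nth inW [] 0) 0 270 = true := by decide +kernel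
theorem c173 : eqAll 12 (appT tabs t76 0xfff) [1] (nth inW [] 1) 0 270 = true := by decide +kernel
theorem c174 : eqAll 12 (appT tabs t76 0xfff) [2] (nth inW [] 2) 0 270 = true := by decide +kernel
theorem c175 : eqAll 12 (appT tabs t76 0xfff) [3] (nth inW [] 3) 0 270 = true := by decide +kernel
theorem c176 : eqAll 12 (appT tabs t76 0xfff) [4] (nth inW [] 4) 0 270 = true := by decide +kernel
theorem c177 : eqAll 12 (appT tabs t76 0xfff) [5] (nth inW [] 5) 0 270 = true := by decide +kernel
theorem c178 : eqAll 12 (appT tabs t76 0xfff) [6] (nth inW [] 6) 0 270 = true := by decide +kernel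
theorem c179 : eqAll 12 (appT tabs t76 0xfff) [7] (nth inW [] 7) 0 270 = true := by decide +kernel
theorem c180 : eqAll 12 (appT tabs t76 0xfff) [8] (nth inW [] 8) 0 270 = true := by decide +kernel

end Cfsg.Agent.CG.ThC
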