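import Cfsg.Agent.Lib.Grp.ThC.D0

set_option autoImplicit false
set_option maxRecDepth 100000
set_option Elab.async false
set_option linter.unusedSectionVars false

namespace Cfsg.Agent.CG.ThC

noncomputable def tabs : List ℕ := [t0,t1,t2,t3,t4,t5,t6,t7,t8,t9,t10,t11,t12,t13,t14,t15,t16,t17,t18,t19,t20,t21,t22,t23,t24,t25,t26,t27,t28,t29,t30,t31,t32,t33,t34,t35,t36,t37,t38,t39,t40,t41,t42,t43,t44,t45,t46,t47,t48,t49,t50,t51,t52,t53,t54,t55,t56,t57,t58,t59,t60,t61,t62,t63,t64,t65,t66,t67,t68,t69,t70,t71,t72,t73,t74,t75]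
noncomputable abbrev app : ℕ → ℕ → ℕ := appT tabs t76 0xfff
noncomputable def slpL : List (Bool × List ℕ) := [(false,[]),
  (false,[]),
  (false,[]),
  (false,[]),
  (false,[]),
  (false,[]),
  (false,[]),
  (false,[]),
  (false,[]),
  (false,[4,4]),
  (true,[9]),
  (false,[2,1]),
  (true,[11]),
  (false,[9]),
  (true,[13]),
  (false,[3,10,0,8,9,6,12,8,6,4,11,3,5,7,11,5,10,7,0,9,4]),
  (true,[15]),
  (false,[14,16,13,15,14]),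
  (true,[17]),
  (false,[18,15,14,15]),
  (true,[19]),
  (false,[18,13,16]),
  (true,[21]),
  (false,[14]),
  (true,[23]),
  (false,[22,19,18,20,20]),
  (true,[25]),
  (false,[18,21,19,21]),
  (true,[27]),
  (false,[25,28,23]),
  (true,[29]),
  (false,[26,26,23]),
  (true,[31]),
  (false,[26,28,25,28]),
  (true,[33]),
  (false,[23,27,26,27]),
  (true,[35]),
  (false,[34,31,30]),
  (true,[37]),
  (false,[31,34,31,34]),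
  (true,[39]),
  (false,[30,31,33,35]),
  (false,[33,36]),
  (false,[32,36,29]),
  (false,[43,42,37]),
  (false,[37,42]),
  (false,[39,43,40]),
  (false,[38,41,42,41]),
  (false,[46]),
  (false,[45]),
  (false,[44,47]),
  (false,[50]),
  (false,[48,49]),
  (false,[52]),
  (false,[53]),
  (false,[51]),
  (false,[48]),
  (false,[44,48,51]),
  (false,[40,48,53]),
  (false,[41,37,53]),
  (false,[43,41,51]),
  (false,[33,29,41,39,44,51]),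
  (false,[24,25,29,32,41,39,37,44,51]),
  (false,[22,15,17,23,28,31,41,37,48]),
  (false,[13,20,15,28,24,32,29,41,40,44]),
  (true,[64]),
  (false,[20,17,17,24,25,32,39,37,44,51]),
  (true,[66]),
  (false,[20,13,15,27,23,29,41,39,37,44,51]),
  (true,[68]),
  (false,[47,43]),
  (false,[1,58,36,2]),
  (true,[71]),
  (false,[21,57,66,22]),
  (true,[73]),
  (false,[74,70,73])]
noncomputable def slp (a : ℕ) : Bool × List ℕ := nth slpL (false, []) a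
noncomputable def invL : List ℕ := [0,1,2,4,3,6,5,8,7,10,9,12,11,14,13,16,15,18,17,20,19,22,21,24,23,26,25,28,27,30,29,32,31,34,33,36,35,38,37,40,39,41,42,43,44,45,46,47,48,49,50,51,52,53,54,55,56,57,58,59,60,61,62,63,65,64,67,66,69,68,70,72,71,74,73,75]
noncomputable def inv (a : ℕ) : ℕ := nth invL 76 a
noncomputable def bs : List ℕ := [24,516,1344,2424,1404,1308,1704,1992]
noncomputable def mc0 : Lvl := ⟨24, [13,14,15,16,17,18,19,20,21,22], 270,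
  fun i => look 0xfff mc0c (Nat.mul 12 i), fun i => look 0xfff mc0p (Nat.mul 12 i),
  fun i => look 0xff mc0l (Nat.mul 8 i), fun i => look 0xff mc0i (Nat.mul 8 i), fun x => look 0xfff mc0q x, 4⟩
noncomputable def mc1 : Lvl := ⟨516, [23,24,25,26,27,28], 28,
  fun i => look 0xfff mc1c (Nat.mul 12 i), fun i => look 0xff mc1p (Nat.mul 8 i),
  fun i => look 0xff mc1l (Nat.mul 8 i), fun i => look 0xff mc1i (Nat.mul 8 i), fun x => look 0xfff mc1q x, 3⟩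
noncomputable def mc2 : Lvl := ⟨1344, [29,30,31,32,33,34,35,36], 24,
  fun i => look 0xfff mc2c (Nat.mul 12 i), fun i => look 0xff mc2p (Nat.mul 8 i),
  fun i => look 0xff mc2l (Nat.mul 8 i), fun i => look 0xff mc2i (Nat.mul 8 i), fun x => look 0xfff mc2q x, 2⟩
noncomputable def mc3 : Lvl := ⟨2424, [37,38,39,40,41,43], 16,
  fun i => look 0xfff mc3c (Nat.mul 12 i), fun i => look 0xff mc3p (Nat.mul 8 i),
  fun i => look 0xff mc3l (Nat.mul 8 i), fun i => look 0xff mc3i (Nat.mul 8 i), fun x => look 0xfff mc3q x, 3⟩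
noncomputable def mc4 : Lvl := ⟨1404, [44], 2,
  fun i => look 0xfff mc4c (Nat.mul 12 i), fun i => look 0xf mc4p (Nat.mul 4 i),
  fun i => look 0xff mc4l (Nat.mul 8 i), fun i => look 0xff mc4i (Nat.mul 8 i), fun x => look 0xfff mc4q x, 1⟩
noncomputable def mc5 : Lvl := ⟨1308, [48], 2,
  fun i => look 0xfff mc5c (Nat.mul 12 i), fun i => look 0xf mc5p (Nat.mul 4 i),
  fun i => look 0xff mc5l (Nat.mul 8 i), fun i => look 0xff mc5i (Nat.mul 8 i), fun x => look 0xfff mc5q x, 1⟩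
noncomputable def mc6 : Lvl := ⟨1704, [51], 2,
  fun i => look 0xfff mc6c (Nat.mul 12 i), fun i => look 0xf mc6p (Nat.mul 4 i),
  fun i => look 0xff mc6l (Nat.mul 8 i), fun i => look 0xff mc6i (Nat.mul 8 i), fun x => look 0xfff mc6q x, 1⟩
noncomputable def mc7 : Lvl := ⟨1992, [53], 2,
  fun i => look 0xfff mc7c (Nat.mul 12 i), fun i => look 0xf mc7p (Nat.mul 4 i),
  fun i => look 0xff mc7l (Nat.mul 8 i), fun i => look 0xff mc7i (Nat.mul 8 i), fun x => look 0xfff mc7q x, 1⟩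
noncomputable def mc : List Lvl := [mc0, mc1, mc2, mc3, mc4, mc5, mc6, mc7]
noncomputable def tcR : List (List ℕ) := [[54,54],
  [55,55],
  [55,54,55,54],
  [56,56],
  [56,54,56,54],
  [56,55,56,55],
  [57,57],
  [57,54,57,54],
  [57,55,57,55],
  [57,56,57,56],
  [58,58],
  [59,59],
  [60,60],
  [58,54,58,54],
  [59,54,59,54],
  [60,54,60,54],
  [58,57,58,57],
  [59,57,59,57],
  [60,57,60,57],
  [60,55,60,54,55,57],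
  [60,56,60,54,56,57],
  [58,55,56,58,55,56],
  [59,55,56,59,55,56],
  [58,59,58,59,55,56],
  [58,59,55,59,58,56],
  [60,58,55,60,58,55],
  [60,59,55,60,59,55],
  [58,55,58,55,58,55,58,55],
  [61,61],
  [61,54,56,61,54,56],
  [61,60,61,60,61,60],
  [61,54,57,61,54,58,55,58],
  [61,57,55,61,57,55],
  [61,54,61,54,61,54,61,54],
  [61,54,61,60,61,54,61,54,60],
  [61,54,59,61,59,54,61,54,59],
  [55,61,59,61,56,61,59,56,61],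
  [61,58,61,56,61,58,61,54,55,57],
  [61,58,61,58,61,58,61,55,58,55],
  [58,61,60,58,61,60,58,61,60],
  [61,59,60,61,58,61,60,59,61,58],
  [62,62],
  [62,55,62,55],
  [62,56,62,56],
  [62,58,62,54,57,59],
  [62,54,62,56,57,58,55,58],
  [62,59,60,62,59,60],
  [62,61,62,61,62,61,62,61],
  [62,61,58,62,59,62,61,62,54,57],
  [62,61,62,58,60,61,62,58,60,61,58,60],
  [63,63],
  [63,54,63,54],
  [63,61,55,61,63,56],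
  [63,59,63,59,63,59],
  [63,55,61,55,61,55,63,56],
  [63,55,63,55,63,55,63,55],
  [63,55,63,57,63,55,63,57],
  [63,61,54,61,63,54,61,54,61],
  [63,55,63,59,63,55,63,57,59],
  [63,55,62,61,55,61,62,63,57],
  [63,55,63,58,63,55,63,54,57,58],
  [63,55,63,60,63,55,63,58,60,58],
  [63,55,62,63,55,63,62,63,58,55,58],
  [63,61,63,55,63,61,57,63,56,55],
  [63,55,61,63,57,63,61,63,55,56,58,55,58],
  [63,59,58,63,61,60,63,54,57,58,55,61,60,62],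
  [63,55,60,63,62,63,60,55,63,61,62,61,62],
  [55,61,60,63,62,60,58,61,62,63,61,59,54,58]]
noncomputable def tc0T : List ℕ := [0,0,0,0,0,0,0,0,0,0,0,0,0,0,0,0,0,0,0,0,0,0,0,0,0,0,0,0,0,0,0,0,0,0,0,0,0,0,0,0,0,0,0,0,0,0,0,0,0,0,0,0,0,0,tc0t54,tc0t55,tc0t56,tc0t57,tc0t58,tc0t59,tc0t60,tc0t61,tc0t62,tc0t63]
noncomputable def tc0r : Tr Rule := (.node (.node (.node (.node (.node (.node (.node (.node (.leaf ⟨63,[63],50,1⟩) (.leaf ⟨55,[58,63,55,61,63,57,63,61,63,55,56,58],64,11⟩)) (.node (.leaf ⟨58,[55,60,58,55,60],25,4⟩) (.leaf ⟨60,[59,61,58,61,59,60,61,58,61],40,6⟩))) (.node (.node (.leaf ⟨57,[63,55,63,57,63,55,63],56,3⟩) (.leaf ⟨61,[60,61,60,61,60],30,2⟩)) (.node (.leaf ⟨54,[59,54,59],14,1⟩) (.leaf ⟨59,[63,59,63,59,63],53,1⟩)))) (.node (.node (.node (.leaf ⟨55,[61,63,56,63,61],52,2⟩) (.leaf ⟨59,[63,59,63,59,63],53,3⟩))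 (.node (.leaf ⟨55,[54,55,54],2,2⟩) (.leaf ⟨63,[54,57,58,55,61,60,62,63,59,58,63,61,60],65,6⟩))) (.node (.node (.leaf ⟨55,[60,54,55,57,60],19,1⟩) (.leaf ⟨59,[63,55,63,59,63,55,63,57],58,8⟩)) (.node (.leaf ⟨58,[63,55,63,54,57,58,63,55,63],60,3⟩) (.leaf ⟨61,[62,63,61,59,54,58,55,61,60,63,62,60,58],67,7⟩))))) (.node (.node (.node (.node (.leaf ⟨61,[60,61,60,61,60],30,4⟩) (.leaf ⟨58,[61,62,63,61,59,54,58,55,61,60,63,62,60],67,6⟩)) (.node (.leaf ⟨54,[56,61,54,56,61],29,4⟩) (.leaf ⟨54,[63,54,63],51,1⟩))) (.node (.node (.leaf ⟨59,[63,55,63,57,59,63,55,63],58,3⟩) (.leaf ⟨63,[61,59,54,58,55,61,60,63,62,60,58,61,62],67,9⟩)) (.node (.leaf ⟨57,[61,54,58,55,58,61,54],31,2⟩) (.leaf ⟨63,[60,55,63,61,62,61,62,63,55,60,63,62],66,5⟩)))) (.node (.node (.node (.leaf ⟨59,[58,59,55,56,58],23,1⟩) (.leaf ⟨61,[54,56,61,54,56],29,3⟩)) (.node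 (.leaf ⟨54,[57,59,62,58,62],44,3⟩) (.leaf ⟨55,[56,58,55,56,58],21,4⟩))) (.node (.node (.leaf ⟨57,[60,56,60,54,56],20,5⟩) (.leaf ⟨60,[59,55,60,59,55],26,3⟩)) (.leaf ⟨55,[63,62,63,58,55,58,63,55,62,63],62,4⟩))))) (.node (.node (.node (.node (.node (.leaf ⟨60,[60],12,1⟩) (.leaf ⟨62,[63,60,55,63,61,62,61,62,63,55,60,63],66,4⟩)) (.node (.leaf ⟨60,[57,60,57],18,2⟩) (.leaf ⟨58,[59,55,59,58,56],24,0⟩))) (.node (.node (.leaf ⟨54,[61,54,60,61,54,61,60,61],34,5⟩) (.leaf ⟨58,[55,60,58,55,60],25,1⟩)) (.node (.leaf ⟨54,[57,61,54,58,55,58,61],31,1⟩) (.leaf ⟨55,[61,60,63,62,60,58,61,62,63,61,59,54,58],67,0⟩)))) (.node (.node (.node (.leaf ⟨58,[59,55,56,58,59],23,2⟩) (.leaf ⟨59,[60,62,59,60,62],46,1⟩)) (.node (.leaf ⟨57,[58,55,58,62,54,62,56],45,4⟩) (.leaf ⟨62,[54,62,56,57,58,55,58],45,0⟩))) (.node (.node (.leaf ⟨56,[61,54,56,61,54],29,5⟩)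 (.leaf ⟨63,[62,63,60,55,63,61,62,61,62,63,55,60],66,3⟩)) (.node (.leaf ⟨55,[63,58,60,58,63,55,63,60,63],61,5⟩) (.leaf ⟨63,[55,62,61,55,61,62,63,57],59,0⟩))))) (.node (.node (.node (.node (.leaf ⟨54,[58,54,58],13,3⟩) (.leaf ⟨58,[57,58,57],16,2⟩)) (.node (.leaf ⟨60,[58,55,60,58,55],25,0⟩) (.leaf ⟨55,[60,58,55,60,58],25,2⟩))) (.node (.node (.leaf ⟨57,[58,57,58],16,3⟩) (.leaf ⟨63,[54,63,54],51,2⟩)) (.node (.leaf ⟨56,[54,56,54],4,0⟩) (.leaf ⟨61,[58,61,54,55,57,61,58,61,56],37,4⟩)))) (.node (.node (.node (.leaf ⟨63,[59,63,59,63,59],53,4⟩) (.leaf ⟨61,[58,61,60,59,61,58,61,59,60],40,3⟩)) (.node (.leaf ⟨62,[54,57,59,62,58],44,2⟩) (.leaf ⟨63,[61,55,61,63,56],52,0⟩))) (.node (.node (.leaf ⟨55,[57,55,57],8,3⟩) (.leaf ⟨61,[62,61,62,61,62,61,62],47,1⟩)) (.leaf ⟨55,[63,61,57,63,56,55,63,61,63],63,3⟩)))))) (.node (.node (.node (.node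 (.node (.node (.leaf ⟨58,[58],10,1⟩) (.leaf ⟨63,[61,60,63,54,57,58,55,61,60,62,63,59,58],65,3⟩)) (.node (.leaf ⟨59,[55,59,58,56,58],24,1⟩) (.leaf ⟨59,[55,56,58,59,58],23,3⟩))) (.node (.node (.leaf ⟨54,[56,54,56],4,3⟩) (.leaf ⟨57,[63,55,63,57,63,55,63],56,7⟩)) (.node (.leaf ⟨58,[55,56,58,55,56],21,0⟩) (.leaf ⟨63,[54,63,54],51,0⟩)))) (.node (.node (.node (.leaf ⟨56,[62,56,62],43,3⟩) (.leaf ⟨62,[59,60,62,59,60],46,0⟩)) (.node (.leaf ⟨61,[57,55,61,57,55],32,0⟩) (.leaf ⟨57,[55,57,55],8,0⟩))) (.node (.node (.leaf ⟨57,[55,61,57,55,61],32,4⟩) (.leaf ⟨61,[60,63,54,57,58,55,61,60,62,63,59,58,63],65,4⟩)) (.node (.leaf ⟨60,[58,55,60,58,55],25,3⟩) (.leaf ⟨58,[61,58,61,58,61,55,58,55,61],38,1⟩))))) (.node (.node (.node (.node (.leaf ⟨54,[63,54,63],51,3⟩) (.leaf ⟨59,[58,56,58,59,55],24,3⟩)) (.node (.leaf ⟨55,[56,55,56],5,1⟩) (.leaf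 ⟨60,[63,62,60,58,61,62,63,61,59,54,58,55,61],67,2⟩))) (.node (.node (.leaf ⟨55,[61,62,63,57,63,55,62,61],59,4⟩) (.leaf ⟨60,[63,54,57,58,55,61,60,62,63,59,58,63,61],65,5⟩)) (.node (.leaf ⟨57,[55,61,57,55,61],32,1⟩) (.leaf ⟨58,[61,54,55,57,61,58,61,56,61],37,5⟩)))) (.node (.node (.node (.leaf ⟨55,[56,55,56],5,3⟩) (.leaf ⟨59,[61,54,59,61,59,54,61,54],35,8⟩)) (.node (.leaf ⟨59,[54,59,54],14,2⟩) (.leaf ⟨58,[56,58,59,55,59],24,4⟩))) (.node (.node (.leaf ⟨55,[57,60,55,60,54],19,4⟩) (.leaf ⟨61,[55,61,63,56,63],52,1⟩)) (.leaf ⟨55,[63,58,63,55,63,54,57,58,63],60,1⟩))))) (.node (.node (.node (.node (.node (.leaf ⟨62,[62],41,1⟩) (.leaf ⟨62,[55,62,55],42,2⟩)) (.node (.leaf ⟨54,[62,56,57,58,55,58,62],45,1⟩) (.leaf ⟨63,[55,63,59,63,55,63,57,59],58,0⟩))) (.node (.node (.leaf ⟨54,[59,61,59,54,61,54,59,61],35,1⟩) (.leaf ⟨60,[62,59,60,62,59],46,2⟩))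 (.node (.leaf ⟨56,[61,58,61,54,55,57,61,58,61],37,3⟩) (.leaf ⟨61,[58,61,58,61,55,58,55,61,58],38,2⟩)))) (.node (.node (.node (.leaf ⟨55,[60,58,55,60,58],25,5⟩) (.leaf ⟨61,[60,58,61,60,58,61,60,58],39,7⟩)) (.node (.leaf ⟨54,[55,57,60,55,60],19,3⟩) (.leaf ⟨62,[61,62,61,62,61,62,61],47,2⟩))) (.node (.node (.leaf ⟨56,[58,55,56,58,55],21,5⟩) (.leaf ⟨58,[55,61,60,62,63,59,58,63,61,60,63,54,57],65,9⟩)) (.leaf ⟨56,[58,59,58,59,55],23,5⟩)))) (.node (.node (.node (.node (.leaf ⟨54,[60,54,60],15,3⟩) (.leaf ⟨57,[60,57,60],18,1⟩)) (.node (.leaf ⟨56,[55,56,55],5,0⟩) (.leaf ⟨61,[59,54,58,55,61,60,63,62,60,58,61,62,63],67,10⟩))) (.node (.node (.leaf ⟨57,[60,57,60],18,3⟩) (.leaf ⟨63,[56,63,61,55,61],52,4⟩)) (.node (.leaf ⟨57,[62,61,58,62,59,62,61,62,54],48,9⟩) (.leaf ⟨61,[60,63,62,60,58,61,62,63,61,59,54,58,55],67,1⟩)))) (.node (.node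 (.node (.leaf ⟨56,[63,55,61,55,61,55,63],54,7⟩) (.leaf ⟨62,[61,62,61,62,61,62,61],47,0⟩)) (.node (.leaf ⟨62,[55,62,55],42,0⟩) (.leaf ⟨59,[61,58,61,59,60,61,58,61,60],40,7⟩))) (.node (.node (.leaf ⟨60,[55,60,54,55,57],19,0⟩) (.leaf ⟨61,[59,54,61,54,59,61,54,59],35,3⟩)) (.leaf ⟨55,[63,60,63,55,63,58,60,58,63],61,1⟩))))))) (.node (.node (.node (.node (.node (.node (.node (.leaf ⟨55,[55],1,1⟩) (.leaf ⟨57,[59,63,55,63,59,63,55,63],58,7⟩)) (.node (.leaf ⟨56,[57,56,57],9,3⟩) (.leaf ⟨58,[63,61,60,63,54,57,58,55,61,60,62,63,59],65,2⟩))) (.node (.node (.leaf ⟨54,[61,63,61,54,61,63,54,61],57,7⟩) (.leaf ⟨61,[58,61,59,60,61,58,61,60,59],40,8⟩)) (.node (.leaf ⟨58,[54,58,54],13,2⟩) (.leaf ⟨58,[54,58,54],13,0⟩)))) (.node (.node (.node (.leaf ⟨56,[55,56,55],5,2⟩) (.leaf ⟨63,[59,63,59,63,59],53,0⟩)) (.node (.leaf ⟨59,[55,60,59,55,60],26,1⟩)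 (.leaf ⟨63,[59,63,55,63,57,59,63,55],58,2⟩))) (.node (.node (.leaf ⟨56,[60,54,56,57,60],20,1⟩) (.leaf ⟨55,[63,55,63,55,63,55,63],55,7⟩)) (.node (.leaf ⟨60,[54,55,57,60,55],19,2⟩) (.leaf ⟨61,[62,61,62,61,62,61,62],47,3⟩))))) (.node (.node (.node (.node (.leaf ⟨60,[62,59,60,62,59],46,5⟩) (.leaf ⟨58,[55,61,60,63,62,60,58,61,62,63,61,59,54],67,13⟩)) (.node (.leaf ⟨59,[54,59,54],14,0⟩) (.leaf ⟨58,[63,55,63,58,63,55,63,54,57],60,9⟩))) (.node (.node (.leaf ⟨57,[63,55,62,61,55,61,62,63],59,8⟩) (.leaf ⟨62,[63,61,59,54,58,55,61,60,63,62,60,58,61],67,8⟩)) (.node (.leaf ⟨54,[61,54,61,54,61,54,61],33,5⟩) (.leaf ⟨60,[58,61,62,63,61,59,54,58,55,61,60,63,62],67,5⟩)))) (.node (.node (.node (.leaf ⟨56,[58,59,55,59,58],24,5⟩) (.leaf ⟨59,[54,61,54,59,61,54,59,61],35,4⟩)) (.node (.leaf ⟨57,[54,57,54],7,0⟩) (.leaf ⟨58,[59,58,59,55,56],23,0⟩)))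 (.node (.node (.leaf ⟨55,[61,57,55,61,57],32,2⟩) (.leaf ⟨61,[59,60,61,58,61,60,59,61,58],40,0⟩)) (.leaf ⟨55,[58,63,55,62,63,55,63,62,63,58],62,9⟩))))) (.node (.node (.node (.node (.node (.leaf ⟨61,[61],28,1⟩) (.leaf ⟨62,[61,62,63,55,60,63,62,63,60,55,63,61],66,10⟩)) (.node (.leaf ⟨56,[59,55,56,59,55],22,2⟩) (.leaf ⟨63,[57,59,63,55,63,59,63,55],58,6⟩))) (.node (.node (.leaf ⟨54,[61,60,61,54,61,54,60,61],34,1⟩) (.leaf ⟨59,[60,62,59,60,62],46,4⟩)) (.node (.leaf ⟨57,[54,57,54],7,2⟩) (.leaf ⟨57,[58,57,58],16,1⟩)))) (.node (.node (.node (.leaf ⟨55,[59,58,56,58,59],24,2⟩) (.leaf ⟨61,[62,61,62,61,62,61,62],47,5⟩)) (.node (.leaf ⟨57,[56,57,56],9,2⟩) (.leaf ⟨61,[57,55,61,57,55],32,3⟩))) (.node (.node (.leaf ⟨62,[58,62,54,57,59],44,0⟩) (.leaf ⟨60,[54,60,54],15,0⟩)) (.leaf ⟨60,[63,55,63,58,60,58,63,55,63],61,3⟩)))) (.node (.node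 (.node (.node (.leaf ⟨54,[59,54,59],14,3⟩) (.leaf ⟨60,[61,60,61,60,61],30,3⟩)) (.node (.leaf ⟨56,[54,56,54],4,2⟩) (.leaf ⟨62,[60,58,61,62,63,61,59,54,58,55,61,60,63],67,4⟩))) (.node (.node (.leaf ⟨57,[59,57,59],17,3⟩) (.leaf ⟨60,[63,62,63,60,55,63,61,62,61,62,63,55],66,2⟩)) (.node (.leaf ⟨54,[61,63,54,61,54,61,63,61],57,2⟩) (.leaf ⟨61,[62,63,57,63,55,62,61,55],59,5⟩)))) (.node (.node (.node (.leaf ⟨55,[61,55,63,56,63,55,61],54,3⟩) (.leaf ⟨62,[56,62,56],43,0⟩)) (.node (.leaf ⟨62,[56,62,56],43,2⟩) (.leaf ⟨58,[61,60,58,61,60,58,61,60],39,6⟩))) (.node (.node (.leaf ⟨57,[60,55,60,54,55],19,5⟩) (.leaf ⟨63,[54,61,54,61,63,61,54,61],57,4⟩)) (.leaf ⟨55,[63,57,59,63,55,63,59,63],58,5⟩)))))) (.node (.node (.node (.node (.node (.node (.leaf ⟨59,[59],11,1⟩) (.leaf ⟨62,[63,59,58,63,61,60,63,54,57,58,55,61,60],65,13⟩)) (.node (.leaf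 ⟨57,[59,57,59],17,1⟩) (.leaf ⟨63,[55,60,63,62,63,60,55,63,61,62,61,62],66,0⟩))) (.node (.node (.leaf ⟨56,[61,54,56,61,54],29,2⟩) (.leaf ⟨60,[62,63,59,58,63,61,60,63,54,57,58,55,61],65,12⟩)) (.node (.leaf ⟨60,[54,60,54],15,2⟩) (.leaf ⟨61,[60,58,61,60,58,61,60,58],39,4⟩)))) (.node (.node (.node (.leaf ⟨56,[56],3,1⟩) (.leaf ⟨56,[62,56,62],43,1⟩)) (.node (.leaf ⟨55,[56,58,59,58,59],23,4⟩) (.leaf ⟨58,[55,56,58,55,56],21,3⟩))) (.node (.node (.leaf ⟨58,[62,54,57,59,62],44,1⟩) (.leaf ⟨61,[63,56,63,61,55],52,3⟩)) (.node (.leaf ⟨58,[57,58,57],16,0⟩) (.leaf ⟨59,[62,61,62,54,57,62,61,58,62],48,4⟩))))) (.node (.node (.node (.node (.leaf ⟨54,[55,54,55],2,3⟩) (.leaf ⟨59,[57,59,57],17,2⟩)) (.node (.leaf ⟨60,[59,55,60,59,55],26,0⟩) (.leaf ⟨54,[60,54,60],15,1⟩))) (.node (.node (.leaf ⟨57,[55,57,55],8,2⟩) (.leaf ⟨63,[61,62,61,62,63,55,60,63,62,63,60,55],66,8⟩))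 (.node (.leaf ⟨55,[63,59,63,55,63,57,59,63],58,1⟩) (.leaf ⟨58,[61,55,58,55,61,58,61,58,61],38,5⟩)))) (.node (.node (.node (.leaf ⟨56,[61,59,56,61,55,61,59,61],36,4⟩) (.leaf ⟨58,[61,59,60,61,58,61,60,59,61],40,9⟩)) (.node (.leaf ⟨56,[57,60,56,60,54],20,4⟩) (.leaf ⟨61,[54,56,61,54,56],29,0⟩))) (.node (.node (.leaf ⟨55,[58,61,54,57,61,54,58],31,6⟩) (.leaf ⟨63,[59,63,59,63,59],53,2⟩)) (.leaf ⟨61,[57,63,56,55,63,61,63,55,63],63,5⟩))))) (.node (.node (.node (.node (.node (.leaf ⟨55,[62,55,62],42,3⟩) (.leaf ⟨62,[59,60,62,59,60],46,3⟩)) (.node (.leaf ⟨59,[55,60,59,55,60],26,4⟩) (.leaf ⟨60,[55,63,61,62,61,62,63,55,60,63,62,63],66,6⟩))) (.node (.node (.leaf ⟨54,[54],0,1⟩) (.leaf ⟨61,[62,61,62,61,62,61,62],47,7⟩)) (.node (.leaf ⟨54,[56,61,54,56,61],29,1⟩) (.leaf ⟨62,[61,62,61,62,61,62,61],47,4⟩)))) (.node (.node (.node (.leaf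 ⟨55,[60,59,55,60,59],26,5⟩) (.leaf ⟨61,[60,59,61,58,61,59,60,61,58],40,5⟩)) (.node (.leaf ⟨55,[54,55,54],2,0⟩) (.leaf ⟨59,[57,59,57],17,0⟩))) (.node (.node (.leaf ⟨56,[59,55,56,59,55],22,5⟩) (.leaf ⟨58,[55,58,61,54,57,61,54],31,5⟩)) (.leaf ⟨62,[63,58,55,58,63,55,62,63,55,63],62,6⟩)))) (.node (.node (.node (.node (.leaf ⟨56,[63,61,55,61,63],52,5⟩) (.leaf ⟨60,[61,60,61,60,61],30,5⟩)) (.node (.leaf ⟨55,[56,59,55,56,59],22,4⟩) (.leaf ⟨60,[61,60,61,60,61],30,1⟩))) (.node (.node (.leaf ⟨57,[57],6,1⟩) (.leaf ⟨63,[59,58,63,61,60,63,54,57,58,55,61,60,62],65,0⟩)) (.node (.leaf ⟨55,[63,54,57,58,63,55,63,58,63],60,5⟩) (.leaf ⟨62,[63,57,63,55,62,61,55,61],59,6⟩)))) (.node (.node (.node (.leaf ⟨55,[63,55,63,55,63,55,63],55,5⟩) (.leaf ⟨61,[60,61,60,61,60],30,0⟩)) (.node (.leaf ⟨59,[62,58,62,54,57],44,5⟩) (.leaf ⟨59,[60,61,58,61,60,59,61,58,61],40,1⟩)))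 (.node (.node (.leaf ⟨56,[58,55,56,58,55],21,2⟩) (.leaf ⟨61,[54,59,61,54,59,61,59,54],35,6⟩)) (.leaf ⟨57,[63,61,63,55,56,58,55,58,63,55,61,63],64,4⟩))))))))
noncomputable def tc0 : TCL := ⟨[54,55,56,57,58,59,60,61,62,63], [54,55,56,57,58,59,60,61,62], 270, 28, 0x1fff, 13, 0xff,
  fun a x => look 0xfffffff (nth tc0T 0 a) x, fun x => look 0xfffffff tc0d x, tc0r⟩
noncomputable def tc1T : List ℕ := [0,0,0,0,0,0,0,0,0,0,0,0,0,0,0,0,0,0,0,0,0,0,0,0,0,0,0,0,0,0,0,0,0,0,0,0,0,0,0,0,0,0,0,0,0,0,0,0,0,0,0,0,0,0,tc1t54,tc1t55,tc1t56,tc1t57,tc1t58,tc1t59,tc1t60,tc1t61,tc1t62]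
noncomputable def tc1r : Tr Rule := (.node (.node (.node (.node (.node (.node (.node (.leaf ⟨62,[62],41,1⟩) (.leaf ⟨60,[61,60,61,60,61],30,5⟩)) (.leaf ⟨56,[58,55,56,58,55],21,5⟩)) (.node (.leaf ⟨59,[62,58,62,54,57],44,5⟩) (.leaf ⟨54,[61,54,60,61,54,61,60,61],34,5⟩))) (.node (.node (.node (.leaf ⟨54,[60,54,60],15,3⟩) (.leaf ⟨57,[60,55,60,54,55],19,5⟩)) (.leaf ⟨56,[61,58,61,54,55,57,61,58,61],37,3⟩)) (.node (.leaf ⟨57,[57],6,1⟩) (.leaf ⟨59,[62,61,62,54,57,62,61,58,62],48,4⟩)))) (.node (.node (.node (.node (.leaf ⟨59,[59],11,1⟩) (.leaf ⟨58,[61,59,60,61,58,61,60,59,61],40,9⟩)) (.leaf ⟨56,[58,55,56,58,55],21,2⟩)) (.node (.leaf ⟨55,[55],1,1⟩) (.leaf ⟨60,[61,54,61,60,61,54,61,54],34,8⟩))) (.node (.node (.leaf ⟨58,[61,58,61,55,58,55,61,58,61],38,3⟩) (.leaf ⟨59,[56,61,55,61,59,61,56,61],36,6⟩)) (.node (.leaf ⟨56,[60,54,56,57,60],20,1⟩)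 (.leaf ⟨60,[54,60,54],15,2⟩))))) (.node (.node (.node (.node (.node (.leaf ⟨54,[54],0,1⟩) (.leaf ⟨61,[54,55,57,61,58,61,56,61,58],37,6⟩)) (.leaf ⟨58,[54,58,54],13,2⟩)) (.node (.leaf ⟨56,[56],3,1⟩) (.leaf ⟨60,[62,59,60,62,59],46,5⟩))) (.node (.node (.node (.leaf ⟨56,[62,56,62],43,3⟩) (.leaf ⟨62,[58,60,61,58,60,62,61,62,58,60,61],49,6⟩)) (.leaf ⟨61,[54,59,61,54,59,61,59,54],35,6⟩)) (.node (.leaf ⟨57,[59,57,59],17,3⟩) (.leaf ⟨58,[60,61,58,60,62,61,62,58,60,61,62],49,7⟩)))) (.node (.node (.node (.node (.leaf ⟨54,[58,54,58],13,3⟩) (.leaf ⟨59,[61,58,61,59,60,61,58,61,60],40,7⟩)) (.leaf ⟨59,[54,59,54],14,2⟩)) (.node (.leaf ⟨57,[61,54,58,55,58,61,54],31,2⟩) (.leaf ⟨60,[62,59,60,62,59],46,2⟩))) (.node (.node (.leaf ⟨57,[58,55,58,62,54,62,56],45,4⟩) (.leaf ⟨58,[61,56,61,58,61,54,55,57,61],37,1⟩)) (.node (.leaf ⟨55,[61,57,55,61,57],32,2⟩)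 (.leaf ⟨62,[55,62,55],42,2⟩)))))) (.node (.node (.node (.node (.node (.node (.leaf ⟨61,[61],28,1⟩) (.leaf ⟨62,[59,60,62,59,60],46,0⟩)) (.leaf ⟨58,[59,55,56,58,59],23,2⟩)) (.node (.leaf ⟨56,[61,54,56,61,54],29,5⟩) (.leaf ⟨57,[60,56,60,54,56],20,5⟩))) (.node (.node (.node (.leaf ⟨55,[62,55,62],42,3⟩) (.leaf ⟨59,[60,61,58,61,60,59,61,58,61],40,1⟩)) (.leaf ⟨54,[56,61,54,56,61],29,1⟩)) (.node (.leaf ⟨57,[58,57,58],16,3⟩) (.leaf ⟨57,[62,61,58,62,59,62,61,62,54],48,9⟩)))) (.node (.node (.node (.node (.leaf ⟨60,[60],12,1⟩) (.leaf ⟨61,[58,61,59,60,61,58,61,60,59],40,8⟩)) (.leaf ⟨59,[55,60,59,55,60],26,4⟩)) (.node (.leaf ⟨55,[58,61,54,57,61,54,58],31,6⟩) (.leaf ⟨59,[54,61,54,59,61,54,59,61],35,4⟩))) (.node (.node (.leaf ⟨58,[61,60,59,61,58,61,59,60,61],40,4⟩) (.leaf ⟨61,[56,61,59,56,61,55,61,59],36,3⟩)) (.node (.leaf ⟨56,[61,54,56,61,54],29,2⟩)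 (.leaf ⟨62,[54,57,59,62,58],44,2⟩))))) (.node (.node (.node (.node (.node (.leaf ⟨58,[58],10,1⟩) (.leaf ⟨61,[59,60,61,58,61,60,59,61,58],40,0⟩)) (.leaf ⟨56,[58,59,55,59,58],24,5⟩)) (.node (.leaf ⟨55,[59,58,56,58,59],24,2⟩) (.leaf ⟨61,[60,61,60,61,60],30,4⟩))) (.node (.node (.node (.leaf ⟨58,[62,54,57,59,62],44,1⟩) (.leaf ⟨62,[58,60,61,62,58,60,61,58,60,62,61],49,2⟩)) (.leaf ⟨60,[61,60,61,60,61],30,3⟩)) (.node (.leaf ⟨57,[60,57,60],18,3⟩) (.leaf ⟨60,[62,61,62,58,60,61,62,58,60,61,58],49,11⟩)))) (.node (.node (.node (.node (.leaf ⟨54,[59,54,59],14,3⟩) (.leaf ⟨55,[56,58,59,58,59],23,4⟩)) (.leaf ⟨56,[57,60,56,60,54],20,4⟩)) (.node (.leaf ⟨54,[61,54,61,54,61,54,61],33,5⟩) (.leaf ⟨61,[62,61,62,61,62,61,62],47,5⟩))) (.node (.node (.leaf ⟨54,[62,56,57,58,55,58,62],45,1⟩) (.leaf ⟨58,[61,54,55,57,61,58,61,56,61],37,5⟩)) (.node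 (.leaf ⟨55,[57,60,55,60,54],19,4⟩) (.leaf ⟨60,[59,55,60,59,55],26,3⟩)))))))
noncomputable def tc1 : TCL := ⟨[54,55,56,57,58,59,60,61,62], [54,55,56,57,58,59,60,61], 28, 24, 0x3ff, 10, 0x7f,
  fun a x => look 0xffffff (nth tc1T 0 a) x, fun x => look 0xffffff tc1d x, tc1r⟩
noncomputable def tc2T : List ℕ := [0,0,0,0,0,0,0,0,0,0,0,0,0,0,0,0,0,0,0,0,0,0,0,0,0,0,0,0,0,0,0,0,0,0,0,0,0,0,0,0,0,0,0,0,0,0,0,0,0,0,0,0,0,0,tc2t54,tc2t55,tc2t56,tc2t57,tc2t58,tc2t59,tc2t60,tc2t61]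
noncomputable def tc2r : Tr Rule := (.node (.node (.node (.node (.node (.node (.leaf ⟨61,[61],28,1⟩) (.leaf ⟨56,[58,59,58,59,55],23,5⟩)) (.node (.leaf ⟨57,[58,57,58],16,3⟩) (.leaf ⟨58,[61,54,55,57,61,58,61,56,61],37,5⟩))) (.node (.node (.leaf ⟨56,[61,54,56,61,54],29,5⟩) (.leaf ⟨60,[61,60,61,60,61],30,3⟩)) (.node (.leaf ⟨55,[61,57,55,61,57],32,5⟩) (.leaf ⟨59,[61,58,61,59,60,61,58,61,60],40,7⟩)))) (.node (.node (.node (.leaf ⟨60,[60],12,1⟩) (.leaf ⟨55,[61,57,55,61,57],32,2⟩)) (.node (.leaf ⟨56,[60,54,56,57,60],20,1⟩) (.leaf ⟨61,[60,58,61,60,58,61,60,58],39,4⟩))) (.node (.node (.leaf ⟨61,[60,61,60,61,60],30,4⟩) (.leaf ⟨55,[61,59,61,56,61,59,56,61],36,0⟩)) (.leaf ⟨58,[54,58,54],13,2⟩)))) (.node (.node (.node (.node (.leaf ⟨58,[58],10,1⟩) (.leaf ⟨54,[61,54,61,54,61,54,61],33,5⟩)) (.node (.leaf ⟨57,[60,57,60],18,3⟩) (.leaf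 ⟨58,[61,55,58,55,61,58,61,58,61],38,5⟩))) (.node (.node (.leaf ⟨55,[59,58,56,58,59],24,2⟩) (.leaf ⟨59,[56,61,55,61,59,61,56,61],36,6⟩)) (.node (.leaf ⟨58,[59,55,56,58,59],23,2⟩) (.leaf ⟨61,[58,61,59,60,61,58,61,60,59],40,8⟩)))) (.node (.node (.node (.leaf ⟨54,[59,54,59],14,3⟩) (.leaf ⟨60,[61,54,61,54,60,61,54,61],34,3⟩)) (.node (.leaf ⟨59,[55,60,59,55,60],26,1⟩) (.leaf ⟨60,[58,61,60,58,61,60,58,61],39,2⟩))) (.node (.node (.leaf ⟨57,[61,54,58,55,58,61,54],31,2⟩) (.leaf ⟨57,[60,55,60,54,55],19,5⟩)) (.leaf ⟨56,[58,55,56,58,55],21,2⟩))))) (.node (.node (.node (.node (.node (.leaf ⟨54,[54],0,1⟩) (.leaf ⟨55,[60,58,55,60,58],25,5⟩)) (.node (.leaf ⟨57,[59,57,59],17,3⟩) (.leaf ⟨56,[61,58,61,54,55,57,61,58,61],37,3⟩))) (.node (.node (.leaf ⟨56,[56],3,1⟩) (.leaf ⟨61,[56,61,59,56,61,55,61,59],36,3⟩)) (.node (.leaf ⟨56,[58,55,56,58,55],21,5⟩)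 (.leaf ⟨58,[61,60,59,61,58,61,59,60,61],40,4⟩)))) (.node (.node (.node (.leaf ⟨54,[58,54,58],13,3⟩) (.leaf ⟨61,[54,60,61,54,61,60,61,54],34,6⟩)) (.node (.leaf ⟨55,[60,54,55,57,60],19,1⟩) (.leaf ⟨61,[60,58,61,60,58,61,60,58],39,7⟩))) (.node (.node (.leaf ⟨55,[58,61,54,57,61,54,58],31,6⟩) (.leaf ⟨54,[56,61,54,56,61],29,1⟩)) (.leaf ⟨56,[58,59,55,59,58],24,5⟩)))) (.node (.node (.node (.node (.leaf ⟨59,[59],11,1⟩) (.leaf ⟨56,[61,54,56,61,54],29,2⟩)) (.node (.leaf ⟨55,[57,60,55,60,54],19,4⟩) (.leaf ⟨58,[61,58,61,55,58,55,61,58,61],38,3⟩))) (.node (.node (.leaf ⟨55,[55],1,1⟩) (.leaf ⟨56,[61,59,56,61,55,61,59,61],36,4⟩)) (.node (.leaf ⟨58,[55,60,58,55,60],25,4⟩) (.leaf ⟨60,[59,61,58,61,59,60,61,58,61],40,6⟩)))) (.node (.node (.node (.leaf ⟨54,[60,54,60],15,3⟩) (.leaf ⟨61,[54,59,61,54,59,61,59,54],35,6⟩)) (.node (.leaf ⟨59,[54,59,54],14,2⟩)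 (.leaf ⟨59,[54,61,54,59,61,54,59,61],35,4⟩))) (.node (.node (.leaf ⟨57,[57],6,1⟩) (.leaf ⟨59,[61,59,54,61,54,59,61,54],35,2⟩)) (.leaf ⟨59,[55,56,58,59,58],23,3⟩))))))
noncomputable def tc2 : TCL := ⟨[54,55,56,57,58,59,60,61], [54,55,56,57,58,59,60], 24, 20, 0x1ff, 9, 0x3f,
  fun a x => look 0xfffff (nth tc2T 0 a) x, fun x => look 0xfffff tc2d x, tc2r⟩
noncomputable def tc3T : List ℕ := [0,0,0,0,0,0,0,0,0,0,0,0,0,0,0,0,0,0,0,0,0,0,0,0,0,0,0,0,0,0,0,0,0,0,0,0,0,0,0,0,0,0,0,0,0,0,0,0,0,0,0,0,0,0,tc3t54,tc3t55,tc3t56,tc3t57,tc3t58,tc3t59,tc3t60]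
noncomputable def tc3r : Tr Rule := (.node (.node (.node (.node (.node (.node (.leaf ⟨58,[58],10,1⟩) (.leaf ⟨55,[58,55,58,55,58,55,58],27,3⟩)) (.leaf ⟨56,[59,55,56,59,55],22,5⟩)) (.node (.leaf ⟨57,[58,57,58],16,3⟩) (.leaf ⟨60,[58,55,60,58,55],25,3⟩))) (.node (.node (.leaf ⟨54,[58,54,58],13,3⟩) (.leaf ⟨56,[58,59,55,59,58],24,5⟩)) (.node (.leaf ⟨55,[57,60,55,60,54],19,4⟩) (.leaf ⟨59,[55,60,59,55,60],26,4⟩)))) (.node (.node (.node (.node (.leaf ⟨59,[59],11,1⟩) (.leaf ⟨56,[58,55,56,58,55],21,2⟩)) (.leaf ⟨59,[58,56,58,59,55],24,3⟩)) (.node (.leaf ⟨57,[59,57,59],17,3⟩) (.leaf ⟨56,[60,54,56,57,60],20,1⟩))) (.node (.node (.leaf ⟨54,[59,54,59],14,3⟩) (.leaf ⟨59,[55,59,58,56,58],24,1⟩)) (.node (.leaf ⟨56,[58,55,56,58,55],21,5⟩) (.leaf ⟨58,[55,60,58,55,60],25,1⟩))))) (.node (.node (.node (.node (.node (.leaf ⟨55,[55],1,1⟩) (.leaf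 ⟨55,[58,55,58,55,58,55,58],27,7⟩)) (.leaf ⟨58,[59,55,56,58,59],23,2⟩)) (.node (.leaf ⟨57,[55,57,55],8,2⟩) (.leaf ⟨55,[60,58,55,60,58],25,5⟩))) (.node (.node (.leaf ⟨54,[55,54,55],2,3⟩) (.leaf ⟨58,[56,58,59,55,59],24,4⟩)) (.node (.leaf ⟨56,[57,60,56,60,54],20,4⟩) (.leaf ⟨55,[60,59,55,60,59],26,5⟩)))) (.node (.node (.node (.leaf ⟨60,[60],12,1⟩) (.leaf ⟨55,[59,58,56,58,59],24,2⟩)) (.node (.leaf ⟨57,[60,57,60],18,3⟩) (.leaf ⟨60,[59,55,60,59,55],26,3⟩))) (.node (.node (.leaf ⟨54,[60,54,60],15,3⟩) (.leaf ⟨58,[59,55,59,58,56],24,0⟩)) (.node (.leaf ⟨56,[56],3,1⟩) (.leaf ⟨55,[58,55,58,55,58,55,58],27,5⟩))))))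
noncomputable def tc3 : TCL := ⟨[54,55,56,57,58,59,60], [54,55,56,57], 16, 20, 0x1ff, 9, 0x3f,
  fun a x => look 0xfffff (nth tc3T 0 a) x, fun x => look 0xfffff tc3d x, tc3r⟩
noncomputable def tc4T : List ℕ := [0,0,0,0,0,0,0,0,0,0,0,0,0,0,0,0,0,0,0,0,0,0,0,0,0,0,0,0,0,0,0,0,0,0,0,0,0,0,0,0,0,0,0,0,0,0,0,0,0,0,0,0,0,0,tc4t54,tc4t55,tc4t56,tc4t57]
noncomputable def tc4r : Tr Rule := (.node (.node (.leaf ⟨57,[57],6,1⟩) (.leaf ⟨55,[57,55,57],8,3⟩)) (.node (.leaf ⟨54,[57,54,57],7,3⟩) (.leaf ⟨56,[57,56,57],9,3⟩)))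
noncomputable def tc4 : TCL := ⟨[54,55,56,57], [54,55,56], 2, 16, 0x3f, 6, 0x7,
  fun a x => look 0xffff (nth tc4T 0 a) x, fun x => look 0xffff tc4d x, tc4r⟩
noncomputable def tc5T : List ℕ := [0,0,0,0,0,0,0,0,0,0,0,0,0,0,0,0,0,0,0,0,0,0,0,0,0,0,0,0,0,0,0,0,0,0,0,0,0,0,0,0,0,0,0,0,0,0,0,0,0,0,0,0,0,0,tc5t54,tc5t55,tc5t56]
noncomputable def tc5r : Tr Rule := (.node (.node (.leaf ⟨56,[56],3,1⟩) (.leaf ⟨55,[56,55,56],5,3⟩)) (.leaf ⟨54,[56,54,56],4,3⟩))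
noncomputable def tc5 : TCL := ⟨[54,55,56], [54,55], 2, 16, 0x3f, 6, 0x7,
  fun a x => look 0xffff (nth tc5T 0 a) x, fun x => look 0xffff tc5d x, tc5r⟩
noncomputable def tc6T : List ℕ := [0,0,0,0,0,0,0,0,0,0,0,0,0,0,0,0,0,0,0,0,0,0,0,0,0,0,0,0,0,0,0,0,0,0,0,0,0,0,0,0,0,0,0,0,0,0,0,0,0,0,0,0,0,0,tc6t54,tc6t55]
noncomputable def tc6r : Tr Rule := (.node (.leaf ⟨55,[55],1,1⟩) (.leaf ⟨54,[55,54,55],2,3⟩))
noncomputable def tc6 : TCL := ⟨[54,55], [54], 2, 16, 0x3f, 6, 0x7,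
  fun a x => look 0xffff (nth tc6T 0 a) x, fun x => look 0xffff tc6d x, tc6r⟩
noncomputable def tc7T : List ℕ := [0,0,0,0,0,0,0,0,0,0,0,0,0,0,0,0,0,0,0,0,0,0,0,0,0,0,0,0,0,0,0,0,0,0,0,0,0,0,0,0,0,0,0,0,0,0,0,0,0,0,0,0,0,0,tc7t54]
noncomputable def tc7r : Tr Rule := (.leaf ⟨54,[54],0,1⟩)
noncomputable def tc7 : TCL := ⟨[54], [], 2, 16, 0x3f, 6, 0x3,
  fun a x => look 0xffff (nth tc7T 0 a) x, fun x => look 0xffff tc7d x, tc7r⟩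
noncomputable def tc : List TCL := [tc0, tc1, tc2, tc3, tc4, tc5, tc6, tc7]
noncomputable def inW : List (List ℕ) := [[63,55,63,58,55,58,57,55],
  [61,60,59,63,58,54,61,62,60,58,54,61,59,57,56,54],
  [60,59,61,63,58,54,61,62,59,58,61,55,59,56,55],
  [62,58,61,62,60,59,58,61,58,55],
  [59,58,54,61,62,60,61,59,60,58,57,54],
  [59,54,61,62,60,61,59,58,57,56,54],
  [59,58,54,61,62,60,59,58,61,59,54],
  [62,58,63,62,63,62,61,60,59,61,62,61,58,61,55,58,57,54],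
  [62,58,63,62,55,63,62,61,60,59,54,61,62,61,58,61,58,55,54]]
noncomputable def tcS : List ℕ := [54,55,56,57,58,59,60,61,62,63]

end Cfsg.Agent.CG.ThC
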