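import Cfsg.Agent.Lib.Grp.ThC.ODefs

set_option autoImplicit false
set_option maxRecDepth 100000
set_option Elab.async false
set_option linter.unusedSectionVars false

namespace Cfsg.Agent.CG.ThC

theorem Oc181 : cc0.chk (appT tabs t76 0xfff) 1 161 = true := by decide +kernel
theorem Oc182 : cc1.chk (appT tabs t76 0xfff) 1 1 = true := by decide +kernel
theorem Oc183 : okcb 270 12 (bases cc) = true := by decide +kernel
theorem Oc184 : headAll (appT tabs t76 0xfff) cc [] = true := by decide +kernel
theorem Oc185 : tp0.head tpR = true := by decide +kernel
theorem Oc186 : allL (fun a => tp0.chk a 0 tp0.N) tp0.S = true := by decide +kernel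
theorem Oc187 : tcLink tp [] [64,65,66,67] = true := by decide +kernel
theorem Oc188 : pc0.chk (appT tabs t76 0xfff) 1 80 = true := by decide +kernel
theorem Oc189 : okcb 270 12 (bases pc) = true := by decide +kernel
theorem Oc190 : headAll (appT tabs t76 0xfff) pc [] = true := by decide +kernel
theorem Oc191 : allL (fun v => eqW (appT tabs t76 0xfff) bs v []) tpR = true := by decide +kernel
theorem Oc192 : trChk (appT tabs t76 0xfff) mc0 [mc1, mc2, mc3, mc4, mc5, mc6, mc7] bs (diagQ pQ) (diagQ pR) pF 0 270 = true := by decide +kernel
theorem Oc193 : classChk (appT tabs t76 0xfff) bs 15 3 68 [10,30,46] pS pF pU = true := by decide +kernel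
theorem Oc194 : powChk (appT tabs t76 0xfff) bs 13 7 aK nK = true := by decide +kernel
theorem Oc195 : en.chk (appT tabs t76 0xfff) (tst0 off 0 tst) 0 4226 0 10918980224472744498233672904 = true := by decide +kernel
theorem Oc196 : en.chk (appT tabs t76 0xfff) (tst0 off 0 tst) 4226 4226 10918980224472744498233672904 22757691338857961654969944308 = true := by decide +kernel
theorem Oc197 : en.chk (appT tabs t76 0xfff) (tst0 off 0 tst) 8452 4226 22757691338857961654969944308 41327640930601760984818239132 = true := by decide +kernel
theorem Oc198 : en.chk (appT tabs t76 0xfff) (tst0 off 0 tst) 12678 4226 41327640930601760984818239132 53392454732554875074908818336 = true := by decide +kernel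
theorem Oc199 : en.chk (appT tabs t76 0xfff) (tst0 off 0 tst) 16904 3320 53392454732554875074908818336 62452485720969259159040657293 = true := by decide +kernel
theorem Oc200 : en1.chk (appT tabs t76 0xfff) (tst1 off 0 7 tst) 0 1792 0 15132911796644578166982169 = true := by decide +kernel
theorem Oc201 : commAll (appT tabs t76 0xfff) bs 15 cc = true := by decide +kernel
theorem Oc202 : offChk 12 (appT tabs t76 0xfff) 13 7 off 0 270 = true := by decide +kernel
theorem Oc203 : relChk (appT tabs t76 0xfff) bs 13 15 rT = true := by decide +kernel

end Cfsg.Agent.CG.ThC
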