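import Cfsg.Agent.Lib.Grp.ThC.OD1
import Cfsg.Agent.Lib.Grp.ThC.Defs

set_option autoImplicit false
set_option maxRecDepth 100000
set_option Elab.async false
set_option linter.unusedSectionVars false

namespace Cfsg.Agent.CG.ThC

noncomputable def cc0 : Lvl := ⟨0, [70,71,72,73,74], 162,
  fun i => look 0xfff cc0c (Nat.mul 12 i), fun i => look 0xff cc0p (Nat.mul 8 i),
  fun i => look 0xff cc0l (Nat.mul 8 i), fun i => look 0xff cc0i (Nat.mul 8 i), fun x => look 0xfff cc0q x, 5⟩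
noncomputable def cc1 : Lvl := ⟨12, [75], 2,
  fun i => look 0xfff cc1c (Nat.mul 12 i), fun i => look 0xf cc1p (Nat.mul 4 i),
  fun i => look 0xff cc1l (Nat.mul 8 i), fun i => look 0xff cc1i (Nat.mul 8 i), fun x => look 0xfff cc1q x, 1⟩
noncomputable def cc : List Lvl := [cc0, cc1]
noncomputable def pc0 : Lvl := ⟨24, [64,65,66,67], 81,
  fun i => look 0xfff pc0c (Nat.mul 12 i), fun i => look 0xff pc0p (Nat.mul 8 i),
  fun i => look 0xff pc0l (Nat.mul 8 i), fun i => look 0xff pc0i (Nat.mul 8 i), fun x => look 0xfff pc0q x, 5⟩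
noncomputable def pc : List Lvl := [pc0]
noncomputable def tpR : List (List ℕ) := [[64,65],
  [65,64],
  [66,67],
  [67,66],
  [66,66,66],
  [64,66,64,66,64,66],
  [67,64,67,64,67,65,65]]
noncomputable def tp0T : List ℕ := [0,0,0,0,0,0,0,0,0,0,0,0,0,0,0,0,0,0,0,0,0,0,0,0,0,0,0,0,0,0,0,0,0,0,0,0,0,0,0,0,0,0,0,0,0,0,0,0,0,0,0,0,0,0,0,0,0,0,0,0,0,0,0,0,tp0t64,tp0t65,tp0t66,tp0t67]
noncomputable def tp0r : Tr Rule := (.node (.node (.node (.node (.node (.leaf ⟨65,[64],0,1⟩) (.leaf ⟨66,[64,66,64,66,64],5,5⟩)) (.leaf ⟨67,[65,65,67,64,67,64],6,4⟩)) (.node (.leaf ⟨66,[66,66],4,2⟩) (.leaf ⟨65,[67,64,67,64,67,65],6,6⟩))) (.node (.node (.leaf ⟨67,[66],2,1⟩) (.leaf ⟨64,[67,65,65,67,64,67],6,3⟩)) (.node (.leaf ⟨64,[66,64,66,64,66],5,4⟩) (.leaf ⟨67,[64,67,64,67,65,65],6,0⟩)))) (.node (.node (.node (.node (.leaf ⟨64,[65],0,0⟩) (.leaf ⟨64,[66,64,66,64,66],5,0⟩))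 (.leaf ⟨65,[65,67,64,67,64,67],6,5⟩)) (.node (.leaf ⟨66,[64,66,64,66,64],5,3⟩) (.leaf ⟨64,[67,64,67,65,65,67],6,1⟩))) (.node (.node (.leaf ⟨66,[67],2,0⟩) (.leaf ⟨67,[64,67,65,65,67,64],6,2⟩)) (.node (.leaf ⟨66,[66,66],4,1⟩) (.leaf ⟨64,[66,64,66,64,66],5,2⟩)))))
noncomputable def tp0 : TCL := ⟨[64,65,66,67], [], 81, 20, 0x7ff, 11, 0x1f,
  fun a x => look 0xfffff (nth tp0T 0 a) x, fun x => look 0xfffff tp0d x, tp0r⟩
noncomputable def tp : List TCL := [tp0]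
noncomputable def pS : List ℕ := [64,65,66,67]
noncomputable def pQ : List (List ℕ) := [[],
  [66,65,67,64],
  [65,66,64,67],
  [64,64,64],
  [65,67,65,65],
  [64,64],
  [65,65,65],
  [65,67,64,66]]
noncomputable def pR : List (List ℕ) := [[64],
  [65],
  [66],
  [67]]
noncomputable def pF : List (List ℕ) := [[],
  [20,13,15,27,23,29,41,39,37,44,51],
  [13,22,17,26,24,24,33,30,41,38,44,48]]
noncomputable def pU : List (List ℕ) := [[10,30,46],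
  [34,2,10]]
noncomputable def aK : List ℕ := [13]
noncomputable def nK : List (List ℕ × ℕ) := [([],0),
  ([],13),
  ([23,23,32,35,43,41,44,51],13),
  ([21,21,17,27,24,25,41,40,53],13),
  ([26,24,32,30,41,44,51,53],13),
  ([21,21,17,23,33,33,41,38,48,51],13),
  ([21,21,17,25,23,35],13)]
noncomputable def rT : List (List ℕ × ℕ) := [([0,1,0,1,0,1,0,1],1932),
  ([0,1,0,1,0,1,0,1],2532),
  ([0,1,0,1,0,1,0,1],2220),
  ([0,1,0,1,0,1,0,1],132),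
  ([0,0,0,1,0,0,0,1,0,0,0,1,0,0,0,1,0,0,0,1,0,0,0,1,0,0,0,1,0,0,0,1,0,0,0,1],1260),
  ([0,0,0,1,0,0,0,1,0,0,0,1,0,0,0,1,0,0,0,1,0,0,0,1,0,0,0,1,0,0,0,1,0,0,0,1],468),
  ([0,0,0,1,0,0,0,1,0,0,0,1,0,0,0,1,0,0,0,1,0,0,0,1,0,0,0,1,0,0,0,1,0,0,0,1],408),
  ([0,0,0,0,1,0,0,0,1,0,0,0,0,1,0,0,0,1,0,0,0,0,1,0,0,0,1,0,0,0,0,1,0,0,0,1,0,0,0,0,1,0,0,0,1,0,0,0,0,1,0,0,0,1],2916),
  ([0,0,0,0,1,0,0,0,1,0,0,0,0,1,0,0,0,1,0,0,0,0,1,0,0,0,1,0,0,0,0,1,0,0,0,1,0,0,0,0,1,0,0,0,1,0,0,0,0,1,0,0,0,1],2760),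
  ([0,0,0,0,1,1,0,1,0,0,0,0,1,1,0,1,0,0,0,0,1,1,0,1,0,0,0,0,1,1,0,1,0,0,0,0,1,1,0,1,0,0,0,0,1,1,0,1,0,0,0,0,1,1,0,1,0,0,0,0,1,1,0,1],636),
  ([0,0,0,0,1,1,0,0,1,0,0,0,0,1,1,0,0,1,0,0,0,0,1,1,0,0,1,0,0,0,0,1,1,0,0,1,0,0,0,0,1,1,0,0,1,0,0,0,0,1,1,0,0,1,0,0,0,0,1,1,0,0,1,0,0,0,0,1,1,0,0,1,0,0,0,0,1,1,0,0,1],1776)]
noncomputable def uu : List (List ℕ) := [[22,16,27,25,34,43,44,48,51,53],
  [22,16,27,25,34,51],
  [27,29,32,39,37,48,51],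
  [27,29,32,40,37,44,48,51,53]]
noncomputable def wT : Tr ℕ := (.node (.node (.node (.node (.node (.leaf wx0) (.leaf wx16)) (.leaf wx8)) (.node (.leaf wx4) (.leaf wx12))) (.node (.node (.node (.leaf wx2) (.leaf wx18)) (.leaf wx10)) (.node (.leaf wx6) (.leaf wx14)))) (.node (.node (.node (.node (.leaf wx1) (.leaf wx17)) (.leaf wx9)) (.node (.leaf wx5) (.leaf wx13))) (.node (.node (.node (.leaf wx3) (.leaf wx19)) (.leaf wx11)) (.node (.leaf wx7) (.leaf wx15)))))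
noncomputable def en : Enum := ⟨inv, 8, 255, 4, fun i => force (Nat.shiftRight i 10) fun c => look 0xffffffff (wT.get c) (Nat.mul 32 (Nat.land i 1023)), 15, [24,516,1344,2424,1404,1308,1704,1992], 4096⟩
noncomputable def wT1 : Tr ℕ := (.node (.leaf w1x0) (.leaf w1x1))
noncomputable def en1 : Enum := ⟨inv, 8, 255, 4, fun i => force (Nat.shiftRight i 10) fun c => look 0xffffffff (wT1.get c) (Nat.mul 32 (Nat.land i 1023)), 15, [1020,3192,1032,1044,1356,3204,2448], 4096⟩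
noncomputable def off (x : ℕ) : ℕ := look 0xfff offT x
noncomputable def tst : (ℕ → ℕ) → Bool := outTest (appT tabs t76 0xfff) bs aK rT [(13, 15)] uu

end Cfsg.Agent.CG.ThC
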