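import Cfsg.Agent.Lib.Grp.ThC.OC0
import Cfsg.Agent.Lib.Grp.ThC.Main

set_option autoImplicit false
set_option maxRecDepth 100000
set_option Elab.async false
set_option linter.unusedSectionVars false

namespace Cfsg.Agent.CG.ThC

theorem chainC : ChainOK act cc [] :=
  chainOK_of_chk act cc [] (by simp) (okc_of_okcb Oc183) Oc184
  (allL_cons Oc181 (allL_cons Oc182 (allL_nil _)))

theorem chainP : ChainOK act pc [] :=
  chainOK_of_chk act pc [] (by simp) (okc_of_okcb Oc189) Oc190
  (allL_cons Oc188 (allL_nil _))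

theorem boundsP : Bounds tpR pS (3 ^ 4) :=
  (show prodTC tp = 3 ^ 4 by decide +kernel) ▸ bounds_of_chain Oc187
  (allL_cons Oc185 (allL_nil _))
  (allL_cons Oc186 (allL_nil _))

theorem cardP : Nat.card (cl act.gen pS) = 3 ^ 4 :=
  card_cl_eq chainP (by decide +kernel) boundsP (base.rels Oc191) (by decide +kernel)

theorem centP : ∀ g ∈ Subgroup.centralizer (cl act.gen pS : Set PG), ∃ φ ∈ pF, g = ev act.gen φ :=
  centralizer_subset (l := mc0) (L := [mc1, mc2, mc3, mc4, mc5, mc6, mc7]) chain card_le base (Q := pQ) (Rf := pR) (by decide +kernel) (by decide +kernel) (by decide +kernel)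
    Oc192

theorem autT (φ : MulAut PG) : ∃ g : PG, φ (act.gen 15) = g * act.gen 15 * g⁻¹ :=
  aut_class base (r := 3) (by norm_num) cardP (not_dvd_of_eq card (by decide +kernel)) centP
    Oc193 φ

theorem autA (φ : MulAut PG) : ∃ g : PG, ∃ a' ∈ aK, g * φ (act.gen 13) * g⁻¹ = act.gen a' :=
  aut_pow base (p := 7) (by norm_num) (not_dvd_of_eq card (by decide +kernel))
    Oc194 φ

theorem enumOK : en.OK app (tst0 off 0 tst) 0 20224 0 62452485720969259159040657293 :=
  (Enum.OK.append (Enum.OK.append (Enum.OK.append (Enum.OK.append (Enum.ok_of_chk Oc195)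
  (Enum.ok_of_chk Oc196))
  (Enum.ok_of_chk Oc197))
  (Enum.ok_of_chk Oc198))
  (Enum.ok_of_chk Oc199))

theorem enumOK1 : en1.OK app (tst1 off 0 7 tst) 0 1792 0 15132911796644578166982169 :=
  (Enum.ok_of_chk Oc200)

theorem cent_le : prodN cc ≤ Nat.card (Subgroup.centralizer {act.gen 15}) :=
  le_card_centralizer base chainC Oc201

theorem offOK : OffOK (okc 270 12) (app 13) 7 off :=
  offOK_of_chk Oc202

theorem classAll (g : PG) : ∃ k : ℕ, ∃ f, act.Rep ((act.gen 13 ^ k)⁻¹ * (g * act.gen 15 * g⁻¹) * act.gen 13 ^ k) f ∧ tst f = true :=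
  Enum.OK.all2 (A := act) (E := en) (E' := en1) enumOK enumOK1 rfl hinv hinv (okc_of_okcb (n := 270) (w := 12) (by decide +kernel)) (okc_of_okcb (n := 270) (w := 12) (by decide +kernel))
    ⟨0, by decide, rfl⟩ ((beq_iff _ _).1 (show Nat.beq (app 13 0) 0 = true by decide +kernel)) (by decide) offOK cent_le
    (card ▸ (ble_iff _ _).1 (by decide +kernel)) g

theorem autPair (φ : MulAut PG) : ∃ s ∈ [(13, 15)], ∃ g : PG, φ (act.gen 13) = g * act.gen s.1 * g⁻¹ ∧ φ (act.gen 15) = g * act.gen s.2 * g⁻¹ :=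
  aut_pair2 base Oc203 (okc_of_okcb (n := 270) (w := 12) (by decide +kernel)) (by decide +kernel) autA autT classAll φ

theorem card_out : Nat.card (Out PG) = 1 := card_out_eq_one clAT autPair

end Cfsg.Agent.CG.ThC
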